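import Cfsg.Agent.Lib.Sp6Mult.Model
import Cfsg.Agent.Lib.Chevalley.Types.CoxE7
import Cfsg.Agent.Lib.Transfer.SplitLifts
import Cfsg.Prelude.Def_KGroupFacts

/-!
# `Sp₆(2)` and the Weyl group of type `E₇`: the bound on the multiplier

In a stem extension the seven transvections lift to elements which braid along the diagram and have
all non-trivial commutators equal to one involution; modulo that involution the extension is an
image of the derived group of the Weyl group, which is `Sp₆(2)`.
-/

set_option autoImplicit false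
set_option linter.unusedSectionVars false
set_option linter.style.haveILetI false
set_option maxRecDepth 4000

namespace Cfsg.Agent.Sp6Mult

open Cfsg.Agent.Forms.SympStd Cfsg.Agent.Classical.Symplectic
open scoped commutatorElement

universe u v

/-- The Coxeter matrix. -/
abbrev cm : CoxeterMatrix (Fin 7) := CoxeterMatrix.E₇

/-- The Weyl group. -/
abbrev WGr : Type := cm.Group

/-- The Coxeter system. -/
abbrev csys : CoxeterSystem cm WGr := cm.toCoxeterSystem

section Relations

variable {G : Type*} [Group G]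

/-- Two involutions satisfying the braid relation have product of order dividing three. -/
theorem braid_pow {a b : G} (ha : a * a = 1) (hb : b * b = 1) (h : a * b * a = b * a * b) :
    (a * b) ^ 3 = 1 := by
  rw [show (a * b) ^ 3 = a * b * a * (b * a * b) by
    simp only [pow_succ, pow_zero, one_mul, mul_assoc], ← h, ← mul_assoc, ← mul_assoc,
    mul_assoc (a * b) a a, ha, mul_one, mul_assoc a b b, hb, mul_one, ha]

theorem pow_three_braid {a b : G} (ha : a * a = 1) (hb : b * b = 1) (h : (a * b) ^ 3 = 1) :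
    a * b * a = b * a * b := by
  rw [show (a * b) ^ 3 = a * b * a * (b * a * b) by
    simp only [pow_succ, pow_zero, one_mul, mul_assoc]] at h
  rw [eq_inv_of_mul_eq_one_left h, mul_inv_rev, mul_inv_rev, inv_eq_of_mul_eq_one_right ha,
    inv_eq_of_mul_eq_one_right hb, mul_assoc]

theorem isLiftable {f : Fin 7 → G} (hsq : ∀ i, f i * f i = 1)
    (h2 : ∀ i j, cm i j = 2 → Commute (f i) (f j))
    (h3 : ∀ i j, cm i j = 3 → f i * f j * f i = f j * f i * f j) : cm.IsLiftable f := by
  intro i j
  rcases e7_cases i j with rfl | h | h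
  · rw [cm.diagonal, pow_one, hsq]
  · rw [h, pow_two, ← mul_assoc, mul_assoc (f i), ← (h2 i j h).eq, ← mul_assoc, hsq, one_mul, hsq]
  · rw [h]
    exact braid_pow (hsq i) (hsq j) (h3 i j h)

end Relations

variable {F : Type u} [Field F] [Fintype F]

local notation "Sp" => Matrix.symplecticGroup (Fin 3) F
local notation "SS" => Cfsg.PSp 3 F

variable (hF : Fintype.card F = 2)
include hF

theorem card_psp : Nat.card (Cfsg.PSp 3 F) = 1451520 := by
  have h := natCard_sp (F := F) (m := 3)
  have hc := natCard_center (F := F) (m := 3) (by norm_num)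
  rw [hF] at h hc
  have h2 := Subgroup.card_eq_card_quotient_mul_card_subgroup (Subgroup.center Sp)
  rw [h, hc, show Nat.gcd 2 (2 - 1) = 1 by norm_num, mul_one] at h2
  rw [Cfsg.PSp, ← h2]
  norm_num [Finset.prod_range_succ]

theorem psp_perfect : commutator (Cfsg.PSp 3 F) = ⊤ := by
  rw [commutator_def, ← Subgroup.map_top_of_surjective (QuotientGroup.mk' (Subgroup.center Sp))
      (QuotientGroup.mk'_surjective _), ← Subgroup.map_commutator, ← commutator_def,
    commutator_eq_top (Or.inl le_rfl)]

/-- The Weyl group maps onto `Sp₆(2)`, faithfully on its derived group. -/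
theorem exists_weyl_hom : ∃ π : WGr →* Cfsg.PSp 3 F, Function.Surjective π ∧
    (∀ w ∈ commutator WGr, π w = 1 → w = 1) ∧ (commutator WGr).map π = ⊤ ∧
      ∃ v : Fin 7 → (Fin 3 ⊕ Fin 3 → F), (∀ i, π (csys.simple i) = QuotientGroup.mk (tv (v i) (1 : F))) ∧
        ∀ i j, Cfsg.sympForm 3 F (v i) (v j) = if cm i j = 3 then 1 else 0 := by
  obtain ⟨v, hgram, hgen⟩ := exists_frame hF
  haveI : CharP F 2 := charP_of_card_eq_prime_pow (f := 1) (by rw [hF]; norm_num)
  have hsq : ∀ i, tv (v i) (1 : F) * tv (v i) 1 = 1 := fun i => by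
    rw [tv_mul, CharTwo.add_self_eq_zero, tv_zero]
  have hcj : ∀ i j, tv (v i) (1 : F) * tv (v j) 1 * (tv (v i) (1 : F))⁻¹ =
      tv (v j + (if cm j i = 3 then (1 : F) else 0) • v i) 1 := fun i j => by
    rw [tv_conj, tv_mulVec, one_mul, hgram]
  let t : Fin 7 → Cfsg.PSp 3 F := fun i => QuotientGroup.mk (tv (v i) (1 : F))
  have hlift : cm.IsLiftable t := by
    refine isLiftable (fun i => ?_) (fun i j h => ?_) (fun i j h => ?_)
    · change QuotientGroup.mk' _ _ * QuotientGroup.mk' _ _ = 1
      rw [← map_mul, hsq, map_one]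
    · refine Commute.map ?_ (QuotientGroup.mk' _)
      have e := hcj i j
      rw [if_neg (by rw [cm.symmetric, h]; norm_num), zero_smul, add_zero] at e
      exact mul_inv_eq_iff_eq_mul.1 e
    · change QuotientGroup.mk' _ _ * QuotientGroup.mk' _ _ * QuotientGroup.mk' _ _ =
        QuotientGroup.mk' _ _ * QuotientGroup.mk' _ _ * QuotientGroup.mk' _ _
      rw [← map_mul, ← map_mul, ← map_mul, ← map_mul]
      refine congrArg _ ?_
      have hji : cm j i = 3 := by rw [cm.symmetric, h]
      have e := hcj i j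
      have e' := hcj j i
      rw [if_pos hji, one_smul] at e
      rw [if_pos h, one_smul, add_comm (v i)] at e'
      have hi : ∀ k, (tv (v k) (1 : F))⁻¹ = tv (v k) 1 := fun k =>
        inv_eq_of_mul_eq_one_right (hsq k)
      rw [hi] at e e'
      rw [e, e']
  refine ⟨csys.lift ⟨t, hlift⟩, ?_⟩
  set π := csys.lift ⟨t, hlift⟩ with hπ
  have hs : ∀ i, π (csys.simple i) = t i := fun i => CoxeterSystem.lift_apply_simple _ hlift i
  have hsur : Function.Surjective π := by
    rw [← MonoidHom.range_eq_top, eq_top_iff,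
      ← Subgroup.map_top_of_surjective (QuotientGroup.mk' (Subgroup.center Sp))
        (QuotientGroup.mk'_surjective _), ← hgen, MonoidHom.map_closure, Subgroup.closure_le]
    rintro _ ⟨_, ⟨i, rfl⟩, rfl⟩
    exact ⟨csys.simple i, hs i⟩
  have hmap : (commutator WGr).map π = ⊤ := by
    rw [commutator_def, Subgroup.map_commutator, Subgroup.map_top_of_surjective π hsur,
      ← commutator_def, psp_perfect hF]
  refine ⟨hsur, ?_, hmap, v, hs, hgram⟩
  haveI : Finite WGr := Nat.finite_of_card_ne_zero (by rw [Chevalley.Types.CoxE7.card_eq]; norm_num)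
  -- the sign character
  let sgn : WGr →* ℤˣ := csys.lift ⟨fun _ => -1, fun i j => by simp⟩
  have hle : Nat.card (commutator WGr) * 2 ≤ 2903040 := by
    have h1 : commutator WGr ≤ sgn.ker := Abelianization.commutator_subset_ker sgn
    have h2 : Function.Surjective sgn := fun x => by
      rcases Int.units_eq_one_or x with rfl | rfl
      · exact ⟨1, map_one _⟩
      · exact ⟨csys.simple 0, CoxeterSystem.lift_apply_simple _ _ _⟩
    have h3 := Subgroup.card_eq_card_quotient_mul_card_subgroup sgn.ker
    rw [Nat.card_congr (QuotientGroup.quotientKerEquivOfSurjective sgn h2).toEquiv,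
      Chevalley.Types.CoxE7.card_eq, Nat.card_eq_fintype_card (α := ℤˣ), Fintype.card_units_int] at h3
    have h4 := Subgroup.card_le_of_le h1
    omega
  let π' : commutator WGr →* Cfsg.PSp 3 F := π.comp (commutator WGr).subtype
  have hs' : Function.Surjective π' := fun y => by
    have hy := Subgroup.mem_top y
    rw [← hmap] at hy
    obtain ⟨x, hx, rfl⟩ := hy
    exact ⟨⟨x, hx⟩, rfl⟩
  haveI : Finite (Cfsg.PSp 3 F) := Finite.of_surjective π' hs'
  have hbij : Function.Bijective π' :=
    (Nat.bijective_iff_surjective_and_card π').2 ⟨hs',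
      le_antisymm (by rw [card_psp hF]; omega) (Nat.card_le_card_of_surjective π' hs')⟩
  intro w hw h1
  exact congrArg Subtype.val (hbij.1 (a₁ := ⟨w, hw⟩) (a₂ := 1) (by rw [map_one]; exact h1))

variable {Γ : Type v} [Group Γ] [Finite Γ] {σ : Γ →* Cfsg.PSp 3 F}

set_option maxHeartbeats 1600000 in
/-- The kernel of a stem extension consists of powers of one involution, the commutator of the lifts of two
orthogonal transvections. -/
theorem exists_gen' (hs : Cfsg.IsStemExtension σ) :
    ∃ ε ∈ σ.ker, ε * ε = 1 ∧ (∀ k ∈ σ.ker, k ∈ Subgroup.zpowers ε) ∧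
      ∃ (a b : Fin 3 ⊕ Fin 3 → F) (g g' : Γ), Cfsg.sympForm 3 F a b = 0 ∧
        σ g = QuotientGroup.mk (tv a (1 : F)) ∧ σ g' = QuotientGroup.mk (tv b (1 : F)) ∧ ⁅g, g'⁆ = ε := by
  classical
  obtain ⟨π, hπs, hπi, -, v, hπv, hgr⟩ := exists_weyl_hom hF
  obtain ⟨hsur, hc, hd⟩ := hs
  have hcen : ∀ {z : Γ}, z ∈ σ.ker → ∀ g, Commute g z := fun hz g => Subgroup.mem_center_iff.1 (hc hz) g
  have hwsq : ∀ i, π (csys.simple i) * π (csys.simple i) = 1 := fun i => by
    rw [← map_mul, csys.simple_mul_simple_self, map_one]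
  have hwrel : ∀ i j, (π (csys.simple i) * π (csys.simple j)) ^ (cm i j) = 1 := fun i j => by
    rw [← map_mul, ← map_pow, csys.simple_mul_simple_pow, map_one]
  choose L hL using fun i => hsur (π (csys.simple i))
  let ρ : Γ → Γ → Γ := fun a b => a * b * a * (b * a * b)⁻¹
  have hρ : ∀ {a b : Γ} {i j}, σ a = π (csys.simple i) → σ b = π (csys.simple j) → cm i j = 3 →
      ρ a b ∈ σ.ker := by
    intro a b i j ha hb h
    have h' := hwrel i j
    rw [h] at h'
    rw [MonoidHom.mem_ker, map_mul, map_inv, map_mul, map_mul, map_mul, map_mul, ha, hb,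
      pow_three_braid (hwsq i) (hwsq j) h', mul_inv_cancel]
  let adjust : Γ → Γ → Γ := fun a b => ρ a b * b
  have hadjσ : ∀ {a b : Γ} {i j}, σ a = π (csys.simple i) → σ b = π (csys.simple j) → cm i j = 3 →
      σ (adjust a b) = π (csys.simple j) := fun {a b i j} ha hb h => by
    rw [map_mul, MonoidHom.mem_ker.1 (hρ ha hb h), one_mul, hb]
  have hadjb : ∀ {a b : Γ} {i j}, σ a = π (csys.simple i) → σ b = π (csys.simple j) → cm i j = 3 →
      a * adjust a b * a = adjust a b * a * adjust a b := fun {a b i j} ha hb h => by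
    have z : ρ a b * (b * a * b) = a * b * a := inv_mul_cancel_right _ _
    have c := hcen (hρ ha hb h)
    change a * (ρ a b * b) * a = ρ a b * b * a * (ρ a b * b)
    calc a * (ρ a b * b) * a = ρ a b * (a * b * a) := by
          rw [← mul_assoc a, (c a).eq]; simp only [mul_assoc]
      _ = ρ a b * (ρ a b * (b * a * b)) := by rw [z]
      _ = _ := by
          rw [mul_assoc (ρ a b * b) a, ← mul_assoc a (ρ a b) b, (c a).eq, mul_assoc (ρ a b) b,
            ← mul_assoc b (ρ a b * a) b, ← mul_assoc b (ρ a b) a, (c b).eq]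
          simp only [mul_assoc]
  -- adjusted lifts along the diagram
  let T0 := L 0
  let T2 := adjust T0 (L 2)
  let T3 := adjust T2 (L 3)
  let T1 := adjust T3 (L 1)
  let T4 := adjust T3 (L 4)
  let T5 := adjust T4 (L 5)
  let T6 := adjust T5 (L 6)
  have s0 : σ T0 = π (csys.simple 0) := hL 0
  have s2 : σ T2 = π (csys.simple 2) := hadjσ s0 (hL 2) (by decide +kernel)
  have s3 : σ T3 = π (csys.simple 3) := hadjσ s2 (hL 3) (by decide +kernel)
  have s1 : σ T1 = π (csys.simple 1) := hadjσ s3 (hL 1) (by decide +kernel)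
  have s4 : σ T4 = π (csys.simple 4) := hadjσ s3 (hL 4) (by decide +kernel)
  have s5 : σ T5 = π (csys.simple 5) := hadjσ s4 (hL 5) (by decide +kernel)
  have s6 : σ T6 = π (csys.simple 6) := hadjσ s5 (hL 6) (by decide +kernel)
  have b02 := hadjb s0 (hL 2) (by decide +kernel)
  have b23 := hadjb s2 (hL 3) (by decide +kernel)
  have b31 := hadjb s3 (hL 1) (by decide +kernel)
  have b34 := hadjb s3 (hL 4) (by decide +kernel)
  have b45 := hadjb s4 (hL 5) (by decide +kernel)
  have b56 := hadjb s5 (hL 6) (by decide +kernel)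
  let T : Fin 7 → Γ := ![T0, T1, T2, T3, T4, T5, T6]
  have hT : ∀ i, σ (T i) = π (csys.simple i) := by
    intro i
    fin_cases i <;> assumption
  have hbr : ∀ i j, cm i j = 3 → T i * T j * T i = T j * T i * T j := by
    intro i j
    fin_cases i <;> fin_cases j <;> intro h <;>
      first
      | assumption
      | exact b02.symm | exact b23.symm | exact b31.symm | exact b34.symm | exact b45.symm | exact b56.symm
      | exact absurd h (by decide +kernel)
  have hTk : ∀ i, T i * T i ∈ σ.ker := fun i => by rw [MonoidHom.mem_ker, map_mul, hT, hwsq]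
  -- the squares agree
  set s := T 0 * T 0 with hsdef
  have hsq : ∀ i, T i * T i = s := by
    have hmove : ∀ i j, cm i j = 3 → T i * T i = s → T j * T j = s := fun i j h e => by
      have e1 : T j = T i * T j * T i * (T i * T j)⁻¹ := by rw [hbr i j h]; group
      rw [e1, ← e]
      calc T i * T j * T i * (T i * T j)⁻¹ * (T i * T j * T i * (T i * T j)⁻¹)
          = (T i * T j) * (T i * T i) * (T i * T j)⁻¹ := by group
        _ = T i * T i := by rw [(hcen (hTk i) (T i * T j)).eq, mul_inv_cancel_right]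
    have q2 := hmove 0 2 (by decide +kernel) rfl
    have q3 := hmove 2 3 (by decide +kernel) q2
    have q1 := hmove 3 1 (by decide +kernel) q3
    have q4 := hmove 3 4 (by decide +kernel) q3
    have q5 := hmove 4 5 (by decide +kernel) q4
    have q6 := hmove 5 6 (by decide +kernel) q5
    intro i
    fin_cases i <;> first | rfl | assumption
  -- the commutators agree
  let E : Fin 7 → Fin 7 → Γ := fun i j => ⁅T i, T j⁆
  have hcomm : ∀ i j, cm i j = 2 → Commute (σ (T i)) (σ (T j)) := fun i j h => by
    have h' := hwrel i j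
    rw [h, pow_two] at h'
    have e := inv_eq_of_mul_eq_one_right h'
    rw [mul_inv_rev, inv_eq_of_mul_eq_one_right (hwsq i), inv_eq_of_mul_eq_one_right (hwsq j)] at e
    rw [hT, hT]
    exact e.symm
  have hEk : ∀ i j, cm i j = 2 → E i j ∈ σ.ker := fun i j h => by
    rw [MonoidHom.mem_ker, map_commutatorElement, commutatorElement_eq_one_iff_commute]
    exact hcomm i j h
  have hE2 : ∀ i j, cm i j = 2 → E i j * E i j = 1 := fun i j h => by
    have h1 : ⁅T i * T i, T j⁆ = 1 :=
      commutatorElement_eq_one_iff_commute.2 (hcen (hTk i) (T j)).symm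
    have h2 : ⁅T i * T i, T j⁆ = T i * E i j * (T i)⁻¹ * E i j := by
      simp only [E, commutatorElement_def]; group
    rw [h1, (hcen (hEk i j h) (T i)).eq, mul_inv_cancel_right] at h2
    exact h2.symm
  set ε := E 0 1 with hεdef
  have hsymm : ∀ {a b}, cm a b = 2 → E a b = ε → E b a = ε := fun {a b} h e => by
    rw [← e, show E b a = (E a b)⁻¹ from (commutatorElement_inv _ _).symm,
      inv_eq_of_mul_eq_one_right (hE2 a b h)]
  have hstep : ∀ {a b c}, cm a b = 2 → cm a c = 2 → cm b c = 3 → E a b = ε → E a c = ε :=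
    fun {a b c} hab hac hbc e => by
    rw [← e]
    have hg : T b * T c * T b * (T b * T c)⁻¹ = T c := by rw [hbr b c hbc]; group
    have hga : σ (T b * T c * T a * (T b * T c)⁻¹) = σ (T a) := by
      rw [map_mul, map_mul, map_inv, map_mul,
        ← ((hcomm a b hab).mul_right (hcomm a c hac)).eq, mul_inv_cancel_right]
    have e2 : T b * T c * E a b * (T b * T c)⁻¹ =
        ⁅T b * T c * T a * (T b * T c)⁻¹, T b * T c * T b * (T b * T c)⁻¹⁆ := by
      simp only [E, commutatorElement_def]; group
    rw [(hcen (hEk a b hab) (T b * T c)).eq, mul_inv_cancel_right, hg,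
      Cfsg.Agent.Transfer.SplitLifts.comm_congr hc hga (rfl : σ (T c) = σ (T c))] at e2
    exact e2.symm
  have e01 : E 0 1 = ε := rfl
  have e10 : E 1 0 = ε := hsymm (by decide +kernel) e01
  have e03 : E 0 3 = ε := hstep (by decide +kernel) (by decide +kernel) (by decide +kernel) e01
  have e30 : E 3 0 = ε := hsymm (by decide +kernel) e03
  have e12 : E 1 2 = ε := hstep (by decide +kernel) (by decide +kernel) (by decide +kernel) e10
  have e21 : E 2 1 = ε := hsymm (by decide +kernel) e12
  have e04 : E 0 4 = ε := hstep (by decide +kernel) (by decide +kernel) (by decide +kernel) e03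
  have e40 : E 4 0 = ε := hsymm (by decide +kernel) e04
  have e05 : E 0 5 = ε := hstep (by decide +kernel) (by decide +kernel) (by decide +kernel) e04
  have e50 : E 5 0 = ε := hsymm (by decide +kernel) e05
  have e42 : E 4 2 = ε := hstep (by decide +kernel) (by decide +kernel) (by decide +kernel) e40
  have e24 : E 2 4 = ε := hsymm (by decide +kernel) e42
  have e06 : E 0 6 = ε := hstep (by decide +kernel) (by decide +kernel) (by decide +kernel) e05
  have e60 : E 6 0 = ε := hsymm (by decide +kernel) e06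
  have e52 : E 5 2 = ε := hstep (by decide +kernel) (by decide +kernel) (by decide +kernel) e50
  have e25 : E 2 5 = ε := hsymm (by decide +kernel) e52
  have e62 : E 6 2 = ε := hstep (by decide +kernel) (by decide +kernel) (by decide +kernel) e60
  have e26 : E 2 6 = ε := hsymm (by decide +kernel) e62
  have e53 : E 5 3 = ε := hstep (by decide +kernel) (by decide +kernel) (by decide +kernel) e52
  have e35 : E 3 5 = ε := hsymm (by decide +kernel) e53
  have e63 : E 6 3 = ε := hstep (by decide +kernel) (by decide +kernel) (by decide +kernel) e62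
  have e36 : E 3 6 = ε := hsymm (by decide +kernel) e63
  have e51 : E 5 1 = ε := hstep (by decide +kernel) (by decide +kernel) (by decide +kernel) e53
  have e15 : E 1 5 = ε := hsymm (by decide +kernel) e51
  have e61 : E 6 1 = ε := hstep (by decide +kernel) (by decide +kernel) (by decide +kernel) e63
  have e16 : E 1 6 = ε := hsymm (by decide +kernel) e61
  have e64 : E 6 4 = ε := hstep (by decide +kernel) (by decide +kernel) (by decide +kernel) e63
  have e46 : E 4 6 = ε := hsymm (by decide +kernel) e64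
  have e14 : E 1 4 = ε := hstep (by decide +kernel) (by decide +kernel) (by decide +kernel) e15
  have e41 : E 4 1 = ε := hsymm (by decide +kernel) e14
  have hall : ∀ i j, cm i j = 2 → E i j = ε := by
    intro i j
    fin_cases i <;> fin_cases j <;> intro h <;> first | assumption | exact absurd h (by decide +kernel)
  have hεk : ε ∈ σ.ker := hEk 0 1 (by decide +kernel)
  refine ⟨ε, hεk, hE2 0 1 (by decide +kernel), ?_, v 0, v 1, T 0, T 1, ?_, (hT 0).trans (hπv 0),
    (hT 1).trans (hπv 1), rfl⟩
  rotate_left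
  · rw [hgr, if_neg (by decide +kernel)]
  -- the quotient by the involution
  set N := Subgroup.zpowers ε with hN
  have hNk : N ≤ σ.ker := Subgroup.zpowers_le.2 hεk
  haveI : N.Normal := ⟨fun n hn g => by rw [(hcen (hNk hn) g).eq, mul_inv_cancel_right]; exact hn⟩
  let q : Γ →* Γ ⧸ N := QuotientGroup.mk' N
  set sb := q s with hsb
  have hsbc : ∀ x, Commute x sb := fun x => by
    obtain ⟨g, rfl⟩ := QuotientGroup.mk'_surjective N x
    exact (hcen (hTk 0) g).map q
  set m := orderOf sb with hm
  let rel : (Γ ⧸ N) × Multiplicative (ZMod (2 * m)) := (sb, Multiplicative.ofAdd (-2))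
  let R := Subgroup.zpowers rel
  have hrelc : ∀ x, Commute x rel := fun x => Prod.ext (hsbc x.1).eq (mul_comm _ _)
  haveI : R.Normal := ⟨fun n hn g => by
    obtain ⟨k, rfl⟩ := Subgroup.mem_zpowers_iff.1 hn
    rw [((hrelc g).zpow_right k).eq, mul_inv_cancel_right]
    exact hn⟩
  let Q := ((Γ ⧸ N) × Multiplicative (ZMod (2 * m))) ⧸ R
  let p : (Γ ⧸ N) × Multiplicative (ZMod (2 * m)) →* Q := QuotientGroup.mk' R
  let ι : Γ →* Q := (p.comp (MonoidHom.inl _ _)).comp q
  let r : Q := p (1, Multiplicative.ofAdd (-1))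
  have hrc : ∀ x, Commute x r := fun x => by
    obtain ⟨x, rfl⟩ := QuotientGroup.mk'_surjective R x
    exact (show Commute x (1, Multiplicative.ofAdd (-1)) from
      Prod.ext (Commute.one_right _).eq (mul_comm _ _)).map p
  have hsrr : ι s * (r * r) = 1 := by
    change p (q s, 1) * (p (1, Multiplicative.ofAdd (-1)) * p (1, Multiplicative.ofAdd (-1))) = 1
    rw [← map_mul, ← map_mul, Prod.mk_mul_mk, Prod.mk_mul_mk, one_mul, mul_one, one_mul, ← ofAdd_add,
      show (-1 : ZMod (2 * m)) + -1 = -2 by ring]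
    exact (QuotientGroup.eq_one_iff _).2 (Subgroup.mem_zpowers rel)
  let U : Fin 7 → Q := fun i => ι (T i) * r
  have hlift : cm.IsLiftable U := by
    refine isLiftable (fun i => ?_) (fun i j h => ?_) (fun i j h => ?_)
    · change ι (T i) * r * (ι (T i) * r) = 1
      rw [(hrc (ι (T i))).symm.mul_mul_mul_comm, ← map_mul, hsq, hsrr]
    · have hq : Commute (q (T i)) (q (T j)) := by
        rw [← commutatorElement_eq_one_iff_commute, ← map_commutatorElement]
        refine (QuotientGroup.eq_one_iff _).2 ?_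
        rw [show ⁅T i, T j⁆ = ε from hall i j h]
        exact Subgroup.mem_zpowers ε
      have h1 : Commute (ι (T i)) (ι (T j)) := hq.map (p.comp (MonoidHom.inl _ _))
      exact (h1.mul_right (hrc _)).mul_left ((hrc _).symm.mul_right (Commute.refl r))
    · change ι (T i) * r * (ι (T j) * r) * (ι (T i) * r) = ι (T j) * r * (ι (T i) * r) * (ι (T j) * r)
      have hh : ∀ a b c : Q, a * r * (b * r) * (c * r) = a * b * c * (r * r * r) := fun a b c => by
        rw [(hrc b).symm.mul_mul_mul_comm, mul_assoc (a * b), ← mul_assoc (r * r) c r,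
          ← ((hrc c).mul_right (hrc c)).eq]
        simp only [mul_assoc]
      rw [hh, hh, show ι (T i) * ι (T j) * ι (T i) = ι (T i * T j * T i) by rw [map_mul, map_mul],
        hbr i j h, map_mul, map_mul]
  let Φ : WGr →* Q := csys.lift ⟨U, hlift⟩
  have hΦ : ∀ i, Φ (csys.simple i) = U i := fun i => CoxeterSystem.lift_apply_simple _ hlift i
  -- everything is a central multiple of the image of the Weyl group
  let Z := Subgroup.center Q
  have hrZ : r ∈ Z := Subgroup.mem_center_iff.2 fun x => (hrc x).eq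
  have hkZ : ∀ k ∈ σ.ker, ι k ∈ Z := fun k hk => Subgroup.mem_center_iff.2 fun x => by
    obtain ⟨x, rfl⟩ := QuotientGroup.mk'_surjective R x
    obtain ⟨g, hg⟩ := QuotientGroup.mk'_surjective N x.1
    exact ((show Commute x (q k, 1) from
      Prod.ext (hg ▸ ((hcen hk g).map q)).eq (mul_comm _ _)).map p).eq
  have hpre : ∀ g, ∃ w, ∃ z ∈ Z, ι g = Φ w * z ∧ σ g = π w := by
    intro g
    obtain ⟨w, hw⟩ := hπs (σ g)
    suffices h : ∀ w, ∃ g, ∃ z ∈ Z, ι g = Φ w * z ∧ σ g = π w by
      obtain ⟨g', z, hz, e1, e2⟩ := h w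
      have hk : g'⁻¹ * g ∈ σ.ker := by
        rw [MonoidHom.mem_ker, map_mul, map_inv, e2, hw, inv_mul_cancel]
      refine ⟨w, z * ι (g'⁻¹ * g), mul_mem hz (hkZ _ hk), ?_, hw.symm⟩
      rw [← mul_assoc, ← e1, ← map_mul, mul_inv_cancel_left]
    intro w
    induction w using csys.simple_induction with
    | simple i =>
      refine ⟨T i, r⁻¹, inv_mem hrZ, ?_, hT i⟩
      rw [hΦ]; exact (mul_inv_cancel_right _ _).symm
    | one => exact ⟨1, 1, one_mem _, by rw [map_one, map_one, mul_one], by rw [map_one, map_one]⟩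
    | mul w w' ih ih' =>
      obtain ⟨g, z, hz, e1, e2⟩ := ih
      obtain ⟨g', z', hz', e1', e2'⟩ := ih'
      refine ⟨g * g', z * z', mul_mem hz hz', ?_, by rw [map_mul, map_mul, e2, e2']⟩
      rw [map_mul, map_mul, e1, e1',
        (show Commute z (Φ w') from (Subgroup.mem_center_iff.1 hz (Φ w')).symm).mul_mul_mul_comm]
  intro k hk
  -- a derived element of the extension comes from the derived group
  have hder : ∀ g ∈ commutator Γ, ∃ w ∈ commutator WGr, ι g = Φ w ∧ σ g = π w := by
    let D : Subgroup Γ :=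
      { carrier := {g | ∃ w ∈ commutator WGr, ι g = Φ w ∧ σ g = π w}
        one_mem' := ⟨1, one_mem _, by rw [map_one, map_one], by rw [map_one, map_one]⟩
        mul_mem' := by
          rintro a b ⟨w, hw, e1, e2⟩ ⟨w', hw', e1', e2'⟩
          exact ⟨w * w', mul_mem hw hw', by rw [map_mul, map_mul, e1, e1'],
            by rw [map_mul, map_mul, e2, e2']⟩
        inv_mem' := by
          rintro a ⟨w, hw, e1, e2⟩
          exact ⟨w⁻¹, inv_mem hw, by rw [map_inv, map_inv, e1], by rw [map_inv, map_inv, e2]⟩ }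
    suffices h : commutator Γ ≤ D from fun g hg => h hg
    rw [commutator_def, Subgroup.commutator_le]
    intro a _ b _
    obtain ⟨w, z, hz, e1, e2⟩ := hpre a
    obtain ⟨w', z', hz', e1', e2'⟩ := hpre b
    refine ⟨⁅w, w'⁆, Subgroup.commutator_mem_commutator (Subgroup.mem_top _) (Subgroup.mem_top _),
      ?_, by rw [map_commutatorElement, map_commutatorElement, e2, e2']⟩
    rw [map_commutatorElement, map_commutatorElement, e1, e1']
    have hzc : (QuotientGroup.mk' Z).ker ≤ Subgroup.center Q := (QuotientGroup.ker_mk' Z).le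
    refine Cfsg.Agent.Transfer.SplitLifts.comm_congr hzc ?_ ?_
    · rw [map_mul, QuotientGroup.mk'_apply, QuotientGroup.mk'_apply,
        (QuotientGroup.eq_one_iff z).2 hz, mul_one]
    · rw [map_mul, QuotientGroup.mk'_apply, QuotientGroup.mk'_apply,
        (QuotientGroup.eq_one_iff z').2 hz', mul_one]
  obtain ⟨w, hw, e1, e2⟩ := hder k (hd hk)
  rw [hπi w hw (e2.symm.trans hk), map_one] at e1
  have h1 : ((q k, 1) : (Γ ⧸ N) × Multiplicative (ZMod (2 * m))) ∈ R :=
    (QuotientGroup.eq_one_iff _).1 e1
  obtain ⟨j, hj⟩ := Subgroup.mem_zpowers_iff.1 h1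
  have hj1 : sb ^ j = q k := congrArg Prod.fst hj
  have hj2 : (Multiplicative.ofAdd (-2 : ZMod (2 * m))) ^ j = 1 := congrArg Prod.snd hj
  have hdvd : ((2 * m : ℕ) : ℤ) ∣ j * -2 := by
    rw [← ZMod.intCast_zmod_eq_zero_iff_dvd]
    rw [← ofAdd_zsmul] at hj2
    have := Multiplicative.ofAdd.injective (hj2.trans ofAdd_zero.symm)
    push_cast
    simpa [zsmul_eq_mul] using this
  have hmj : (m : ℤ) ∣ j := by
    obtain ⟨c, hc'⟩ := hdvd
    push_cast at hc'
    exact ⟨-c, by linarith⟩
  rw [orderOf_dvd_iff_zpow_eq_one.1 hmj] at hj1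
  exact (QuotientGroup.eq_one_iff k).1 hj1.symm

/-- The kernel of a stem extension consists of powers of one involution. -/
theorem exists_gen (hs : Cfsg.IsStemExtension σ) :
    ∃ ε ∈ σ.ker, ε * ε = 1 ∧ ∀ k ∈ σ.ker, k ∈ Subgroup.zpowers ε := by
  obtain ⟨ε, h1, h2, h3, -⟩ := exists_gen' hF hs
  exact ⟨ε, h1, h2, h3⟩

end Cfsg.Agent.Sp6Mult
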