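import Cfsg.Agent.Lib.Classical.Symplectic
import Mathlib.GroupTheory.Coxeter.Matrix

/-!
# Seven transvections of `Sp₆(2)` with the relations of the Coxeter system of type `E₇`
-/

set_option autoImplicit false
set_option linter.unusedSectionVars false
set_option maxRecDepth 20000

namespace Cfsg.Agent.Sp6Mult

open Matrix Cfsg.Agent.Forms.SympStd Cfsg.Agent.Classical.Symplectic

/-- Vectors over the field with two elements. -/
abbrev V2 : Type := Fin 3 ⊕ Fin 3 → ZMod 2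

/-- The vectors of the seven transvections. -/
def v2 : Fin 7 → V2 :=
  ![Sum.elim ![0,0,0] ![0,0,1],
    Sum.elim ![0,0,0] ![0,1,0],
    Sum.elim ![0,0,1] ![0,0,0],
    Sum.elim ![0,1,0] ![0,0,1],
    Sum.elim ![0,0,0] ![1,1,0],
    Sum.elim ![1,0,0] ![0,0,0],
    Sum.elim ![0,0,0] ![1,0,0]]

/-- The move by a transvection. -/
def mv2 (k : Fin 7) (u : V2) : V2 :=
  u + Cfsg.sympForm 3 (ZMod 2) u (v2 k) • v2 k

/-- Words reaching every non-zero vector, indexed by binary coordinates. -/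
def tbl : List (Fin 7 × List (Fin 7)) :=
  [(0, []),
    (5, []),
    (0, [2,3,1,4,3,2,5,4,3,6,5,4]),
    (0, [2,3,1,4,3,2,5,4,3,1]),
    (2, []),
    (1, [3,2,4,3,5,6]),
    (0, [2,3]),
    (0, [2,3,1,4,5,6]),
    (6, []),
    (5, [6]),
    (0, [2,3,1,4,3,2,5,4,3,1,6,5]),
    (0, [2,3,1,4,3,2,5,4,3,1,6]),
    (1, [3,2,4,3]),
    (1, [3,2,4,3,5]),
    (0, [2,3,1,4]),
    (0, [2,3,1,4,5]),
    (1, []),
    (4, [5,6]),
    (0, [2,3,1,4,3,2,5,4,3,1,6,5,4]),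
    (0, [2,3,1,4,3,2,5,4,3]),
    (0, [2,3,1,4,3,2,5,4,3,1,6,5,4,3,2,0]),
    (1, [3,2,4,3,5,4]),
    (0, [2,3,1]),
    (0, [2,3,4,5,6]),
    (4, []),
    (4, [5]),
    (0, [2,3,1,4,3,2,5,4,3,6,5]),
    (0, [2,3,1,4,3,2,5,4,3,6]),
    (1, [3,2,4,3,5,4,6,5]),
    (1, [3,2,4,3,5,4,6]),
    (0, [2,3,4]),
    (0, [2,3,4,5]),
    (0, []),
    (0, [2,3,1,4,3,2,5,6]),
    (3, []),
    (1, [3,4,5,6]),
    (0, [2]),
    (0, [2,3,1,4,3,5,6]),
    (2, [3]),
    (1, [3,2,4,5,6]),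
    (0, [2,3,1,4,3,2]),
    (0, [2,3,1,4,3,2,5]),
    (1, [3,4]),
    (1, [3,4,5]),
    (0, [2,3,1,4,3]),
    (0, [2,3,1,4,3,5]),
    (1, [3,2,4]),
    (1, [3,2,4,5]),
    (0, [2,3,1,4,3,2,5,4,3,1,6,5,4,3]),
    (0, [2,3,1,4,3,2,5,4]),
    (1, [3]),
    (3, [4,5,6]),
    (0, [2,3,1,4,3,2,5,4,3,1,6,5,4,3,2]),
    (0, [2,3,1,4,3,5,4]),
    (1, [3,2]),
    (2, [3,4,5,6]),
    (0, [2,3,1,4,3,2,5,4,6,5]),
    (0, [2,3,1,4,3,2,5,4,6]),
    (3, [4]),
    (3, [4,5]),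
    (0, [2,3,1,4,3,5,4,6,5]),
    (0, [2,3,1,4,3,5,4,6]),
    (2, [3,4]),
    (2, [3,4,5])]

/-- The index of a vector. -/
def enc (u : V2) : ℕ :=
  (u (.inl 0)).val + 2 * (u (.inl 1)).val + 4 * (u (.inl 2)).val + 8 * (u (.inr 0)).val +
    16 * (u (.inr 1)).val + 32 * (u (.inr 2)).val

theorem gram2 : ∀ i j : Fin 7,
    Cfsg.sympForm 3 (ZMod 2) (v2 i) (v2 j) = if CoxeterMatrix.E₇ i j = 3 then 1 else 0 := by
  decide +kernel

theorem reach2 : ∀ u : V2, u ≠ 0 →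
    (tbl.getD (enc u) (0, [])).2.foldl (fun x k => mv2 k x) (v2 (tbl.getD (enc u) (0, [])).1) = u := by
  decide +kernel

theorem e7_cases : ∀ i j : Fin 7,
    i = j ∨ CoxeterMatrix.E₇ i j = 2 ∨ CoxeterMatrix.E₇ i j = 3 := by
  intro i j
  fin_cases i <;> fin_cases j <;> decide +kernel

universe u

variable {F : Type u} [Field F]

local notation "Vec" => (Fin 3 ⊕ Fin 3 → F)
local notation "Sp" => Matrix.symplecticGroup (Fin 3) F

theorem form_map (φ : ZMod 2 →+* F) (a b : V2) :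
    Cfsg.sympForm 3 F (φ ∘ a) (φ ∘ b) = φ (Cfsg.sympForm 3 (ZMod 2) a b) := by
  simp only [Cfsg.sympForm, Matrix.J, dotProduct, Matrix.mulVec, Fintype.sum_sum_type,
    Fin.sum_univ_three, Function.comp_apply, map_add, map_mul]
  have hn : ∀ x : F, -x = x := fun x => by
    have h2 : φ (1 + 1) = φ 0 := congrArg φ (by decide)
    rw [map_add, map_one, map_zero] at h2
    linear_combination -x * h2
  simp [Matrix.fromBlocks, hn]

variable [Fintype F] (hF : Fintype.card F = 2)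
include hF

theorem exists_emb : Nonempty (ZMod 2 ≃+* F) := by
  haveI : CharP F 2 := charP_of_card_eq_prime_pow (f := 1) (by rw [hF]; norm_num)
  exact ⟨ZMod.ringEquiv F hF⟩

/-- Seven transvections. -/
theorem exists_frame : ∃ v : Fin 7 → (Fin 3 ⊕ Fin 3 → F),
    (∀ i j, Cfsg.sympForm 3 F (v i) (v j) = if CoxeterMatrix.E₇ i j = 3 then 1 else 0) ∧
      Subgroup.closure (Set.range fun i => tv (v i) (1 : F)) =
        (⊤ : Subgroup (Matrix.symplecticGroup (Fin 3) F)) := by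
  obtain ⟨e⟩ := exists_emb hF
  let φ : ZMod 2 →+* F := e.toRingHom
  refine ⟨fun i => φ ∘ v2 i, fun i j => ?_, ?_⟩
  · rw [form_map, gram2]
    split <;> simp
  set H := Subgroup.closure (Set.range fun i => tv (φ ∘ v2 i) (1 : F)) with hH
  have hgen : ∀ i, tv (φ ∘ v2 i) (1 : F) ∈ H := fun i => Subgroup.subset_closure ⟨i, rfl⟩
  have hfold : ∀ (w : List (Fin 7)) (x : V2), tv (φ ∘ x) (1 : F) ∈ H →
      tv (φ ∘ (w.foldl (fun x k => mv2 k x) x)) (1 : F) ∈ H := by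
    intro w
    induction w with
    | nil => exact fun x hx => hx
    | cons k w ih =>
      intro x hx
      refine ih (mv2 k x) ?_
      have e1 : φ ∘ mv2 k x = ((tv (φ ∘ v2 k) (1 : F) : Sp) : Matrix (Fin 3 ⊕ Fin 3) (Fin 3 ⊕ Fin 3) F) *ᵥ (φ ∘ x) := by
        rw [tv_mulVec, form_map, one_mul]
        funext p
        simp [mv2]
      rw [e1, ← tv_conj]
      exact mul_mem (mul_mem (hgen k) hx) (inv_mem (hgen k))
  rw [eq_top_iff, ← closure_tvSet_eq_top, Subgroup.closure_le]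
  rintro A ⟨w, c, -, hA⟩
  have hA' : A = tv w c := Subtype.ext hA
  rw [hA', SetLike.mem_coe]
  have hz : ∀ a : ZMod 2, a = 0 ∨ a = 1 := by decide
  rcases hz (e.symm c) with hc | hc <;> have hc' : c = e (e.symm c) := (e.apply_symm_apply c).symm
  · rw [hc', hc, map_zero, tv_zero]; exact one_mem _
  · rw [hc', hc, map_one]
    have hw : w = φ ∘ (e.symm ∘ w) := funext fun p => (e.apply_symm_apply (w p)).symm
    rw [hw]
    by_cases h0 : (e.symm ∘ w : V2) = 0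
    · rw [h0, show φ ∘ (0 : V2) = 0 from funext fun p => map_zero φ]
      rw [show tv (0 : Vec) (1 : F) = 1 from sp_ext fun x => by rw [tv_mulVec]; simp]
      exact one_mem _
    · rw [← reach2 _ h0]
      exact hfold _ _ (hgen _)

end Cfsg.Agent.Sp6Mult
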