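import Cfsg.Agent.Lib.Sp6Mult.Upper

/-!
# The double cover of `Sp₆(2)` from a spin representation of the Weyl group

Seven anticommuting matrices over the field with three elements give lifts of the reflections whose
commutators are minus one.
-/

set_option autoImplicit false
set_option linter.unusedSectionVars false
set_option linter.style.haveILetI false
set_option maxRecDepth 20000

namespace Cfsg.Agent.Sp6Mult

open scoped commutatorElement

/-- Eight by eight matrices over the field with three elements. -/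
abbrev M8 : Type := Matrix (Fin 8) (Fin 8) (ZMod 3)

/-- The tables. -/
def spinTbl : Fin 7 → Fin 8 → Fin 8 → ZMod 3 :=
  ![![![0,0,0,0,0,2,0,0], ![0,0,0,0,2,0,0,0], ![0,0,0,0,0,0,0,1], ![0,0,0,0,0,0,1,0], ![0,1,0,0,0,0,0,0], ![1,0,0,0,0,0,0,0], ![0,0,0,2,0,0,0,0], ![0,0,2,0,0,0,0,0]],
    ![![0,0,0,0,0,0,0,2], ![0,0,0,0,0,0,2,0], ![0,0,0,0,0,2,0,0], ![0,0,0,0,2,0,0,0], ![0,0,0,1,0,0,0,0], ![0,0,1,0,0,0,0,0], ![0,1,0,0,0,0,0,0], ![1,0,0,0,0,0,0,0]],
    ![![0,0,2,0,2,2,2,0], ![0,0,0,1,2,1,0,1], ![1,0,0,0,1,0,2,1], ![0,2,0,0,0,2,1,1], ![1,1,2,0,0,0,1,0], ![1,2,0,1,0,0,0,2], ![1,0,1,2,2,0,0,0], ![0,2,2,2,0,1,0,0]],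
    ![![0,0,2,0,1,0,2,2], ![0,0,0,1,0,2,2,1], ![1,0,0,0,1,2,1,0], ![0,2,0,0,2,2,0,2], ![2,0,2,1,0,0,1,0], ![0,1,1,1,0,0,0,2], ![1,1,2,0,2,0,0,0], ![1,2,0,1,0,1,0,0]],
    ![![0,0,2,2,2,0,2,0], ![0,0,2,1,0,1,0,1], ![1,1,0,0,1,0,2,0], ![1,2,0,0,0,2,0,1], ![1,0,2,0,0,0,1,2], ![0,2,0,1,0,0,2,2], ![1,0,1,0,2,1,0,0], ![0,2,0,2,1,1,0,0]],
    ![![0,2,1,2,0,0,2,0], ![1,0,2,2,0,0,0,1], ![2,1,0,2,1,0,0,0], ![1,1,1,0,0,2,0,0], ![0,0,2,0,0,2,2,2], ![0,0,0,1,1,0,2,1], ![1,0,0,0,1,1,0,2], ![0,2,0,0,1,2,1,0]],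
    ![![0,2,0,0,0,0,0,0], ![1,0,0,0,0,0,0,0], ![0,0,0,2,0,0,0,0], ![0,0,1,0,0,0,0,0], ![0,0,0,0,0,2,0,0], ![0,0,0,0,1,0,0,0], ![0,0,0,0,0,0,0,2], ![0,0,0,0,0,0,1,0]]]

/-- The spin matrices. -/
def spin (i : Fin 7) : M8 := Matrix.of (spinTbl i)

theorem spin_sq : ∀ i, spin i * spin i = -1 := by
  decide +kernel

theorem spin_rel : ∀ i j, (cm i j = 2 → spin i * spin j = -(spin j * spin i)) ∧
    (cm i j = 3 → spin i * spin j * spin i = spin j * spin i * spin j) := by
  intro i j
  fin_cases i <;> fin_cases j <;> decide +kernel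

theorem spin_ne : spin 0 * spin 2 ≠ spin 2 * spin 0 ∧ spin 0 * spin 2 ≠ -(spin 2 * spin 0) ∧
    (1 : M8) ≠ -1 := by
  decide +kernel

/-- The spin units. -/
def spinU (i : Fin 7) : M8ˣ :=
  ⟨spin i, -spin i, by rw [mul_neg, spin_sq, neg_neg], by rw [neg_mul, spin_sq, neg_neg]⟩

/-- The spin group. -/
def Pin : Subgroup M8ˣ := Subgroup.closure (Set.range spinU)

/-- Its generators. -/
def gen (i : Fin 7) : ↥Pin := ⟨spinU i, Subgroup.subset_closure ⟨i, rfl⟩⟩

theorem neg_one_mem : (-1 : M8ˣ) ∈ Pin := by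
  have h : spinU 0 * spinU 0 = -1 := Units.ext (by
    rw [Units.val_mul, Units.val_neg, Units.val_one]; exact spin_sq 0)
  rw [← h]
  exact mul_mem (Subgroup.subset_closure ⟨0, rfl⟩) (Subgroup.subset_closure ⟨0, rfl⟩)

/-- Minus one. -/
def mone : ↥Pin := ⟨-1, neg_one_mem⟩

theorem mone_sq : mone * mone = 1 := Subtype.ext (by
  change (-1 : M8ˣ) * -1 = 1
  rw [neg_mul_neg, one_mul])

theorem mone_comm (g : ↥Pin) : Commute g mone := Subtype.ext (by
  change (g : M8ˣ) * -1 = -1 * (g : M8ˣ)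
  rw [mul_neg_one, neg_one_mul])

theorem mone_ne : mone ≠ 1 := fun h =>
  spin_ne.2.2 (congrArg (fun x : ↥Pin => ((x : M8ˣ) : M8)) h).symm

/-- The scalars. -/
def Scal : Subgroup ↥Pin := Subgroup.zpowers mone

theorem mem_scal {x : ↥Pin} : x ∈ Scal ↔ x = 1 ∨ x = mone := by
  constructor
  · intro h
    obtain ⟨k, rfl⟩ := Subgroup.mem_zpowers_iff.1 h
    rcases Int.even_or_odd k with ⟨j, rfl⟩ | ⟨j, rfl⟩
    · refine Or.inl ?_
      rw [← two_mul, _root_.zpow_mul, zpow_ofNat, pow_two, mone_sq, _root_.one_zpow]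
    · refine Or.inr ?_
      rw [zpow_add_one, _root_.zpow_mul, zpow_ofNat, pow_two, mone_sq, _root_.one_zpow, one_mul]
  · rintro (rfl | rfl)
    exacts [one_mem _, Subgroup.mem_zpowers _]

instance scal_normal : Scal.Normal := ⟨fun n hn g => by
  rcases mem_scal.1 hn with rfl | rfl
  · rw [mul_one, mul_inv_cancel]; exact one_mem _
  · rw [(mone_comm g).eq, mul_inv_cancel_right]; exact hn⟩

theorem gen_sq (i : Fin 7) : gen i * gen i = mone := Subtype.ext (Units.ext (by
  change spin i * spin i = ((-1 : M8ˣ) : M8)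
  rw [Units.val_neg, Units.val_one, spin_sq]))

theorem gen_anticomm {i j : Fin 7} (h : cm i j = 2) : gen i * gen j = mone * (gen j * gen i) :=
  Subtype.ext (Units.ext (by
    change spin i * spin j = ((-1 : M8ˣ) : M8) * (spin j * spin i)
    rw [Units.val_neg, Units.val_one, neg_one_mul]
    exact (spin_rel i j).1 h))

theorem closure_gen : Subgroup.closure (Set.range gen) = ⊤ := by
  have h : Set.range gen = Subtype.val ⁻¹' Set.range spinU := by
    ext x
    constructor
    · rintro ⟨i, rfl⟩; exact ⟨i, rfl⟩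
    · rintro ⟨i, hi⟩; exact ⟨i, Subtype.ext hi⟩
  rw [h]
  exact Subgroup.closure_closure_coe_preimage

theorem exists_spin_hom : ∃ Φ : WGr →* ↥Pin ⧸ Scal, Function.Surjective Φ ∧
    ∀ i, Φ (csys.simple i) = QuotientGroup.mk (gen i) := by
  have hlift : cm.IsLiftable fun i => (QuotientGroup.mk (gen i) : ↥Pin ⧸ Scal) := by
    refine isLiftable (fun i => ?_) (fun i j h => ?_) (fun i j h => ?_)
    · rw [← QuotientGroup.mk_mul, QuotientGroup.eq_one_iff, gen_sq]
      exact Subgroup.mem_zpowers _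
    · change QuotientGroup.mk (gen i * gen j) = QuotientGroup.mk (gen j * gen i)
      rw [gen_anticomm h, QuotientGroup.mk_mul, (QuotientGroup.eq_one_iff (N := Scal) mone).2
        (Subgroup.mem_zpowers _), one_mul]
    · change QuotientGroup.mk (gen i * gen j * gen i) = QuotientGroup.mk (gen j * gen i * gen j)
      refine congrArg _ (Subtype.ext (Units.ext ?_))
      exact (spin_rel i j).2 h
  refine ⟨csys.lift ⟨_, hlift⟩, ?_, fun i => CoxeterSystem.lift_apply_simple _ hlift i⟩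
  rw [← MonoidHom.range_eq_top, eq_top_iff,
    ← Subgroup.map_top_of_surjective (QuotientGroup.mk' Scal) (QuotientGroup.mk'_surjective _),
    ← closure_gen, MonoidHom.map_closure, Subgroup.closure_le]
  rintro _ ⟨_, ⟨i, rfl⟩, rfl⟩
  exact ⟨csys.simple i, CoxeterSystem.lift_apply_simple _ hlift i⟩

theorem simple_mul_mem (i j : Fin 7) : csys.simple i * csys.simple j ∈ commutator WGr := by
  have hstep : ∀ a b, cm a b = 3 →
      Abelianization.of (csys.simple a) = Abelianization.of (csys.simple b) := by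
    intro a b h
    have h' := pow_three_braid (csys.simple_mul_simple_self a) (csys.simple_mul_simple_self b)
      (by rw [← h]; exact csys.simple_mul_simple_pow a b)
    have e := congrArg Abelianization.of h'
    rw [map_mul, map_mul, map_mul, map_mul, mul_comm (Abelianization.of (csys.simple b))
      (Abelianization.of (csys.simple a))] at e
    exact mul_left_cancel e
  have q2 := hstep 0 2 (by decide +kernel)
  have q3 := q2.trans (hstep 2 3 (by decide +kernel))
  have q1 := q3.trans (hstep 3 1 (by decide +kernel))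
  have q4 := q3.trans (hstep 3 4 (by decide +kernel))
  have q5 := q4.trans (hstep 4 5 (by decide +kernel))
  have q6 := q5.trans (hstep 5 6 (by decide +kernel))
  have hall : ∀ k, Abelianization.of (csys.simple 0) = Abelianization.of (csys.simple k) := by
    intro k
    fin_cases k <;> first | rfl | assumption
  rw [← Abelianization.ker_of, MonoidHom.mem_ker, map_mul, ← hall i, ← hall j, ← map_mul,
    csys.simple_mul_simple_self, map_one]

universe u

variable {F : Type u} [Field F] [Fintype F]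

theorem exists_cover (hF : Fintype.card F = 2) :
    ∃ (Γ : Type u) (_ : Group Γ) (_ : Finite Γ) (σ : Γ →* Cfsg.PSp 3 F),
      Cfsg.IsStemExtension σ ∧ Nonempty (σ.ker ≃* Multiplicative (ZMod 2)) := by
  classical
  obtain ⟨π, -, hπi, hπm, -⟩ := exists_weyl_hom hF
  obtain ⟨Φ, hΦs, hΦ⟩ := exists_spin_hom
  let π' : commutator WGr →* Cfsg.PSp 3 F := π.comp (commutator WGr).subtype
  have hπ' : Function.Bijective π' := by
    refine ⟨?_, fun y => ?_⟩
    · rw [injective_iff_map_eq_one]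
      exact fun w hw => Subtype.ext (hπi w.1 w.2 hw)
    · have hy := Subgroup.mem_top y
      rw [← hπm] at hy
      obtain ⟨x, hx, rfl⟩ := hy
      exact ⟨⟨x, hx⟩, rfl⟩
  let eW := MulEquiv.ofBijective π' hπ'
  let Φ' : commutator WGr →* ↥Pin ⧸ Scal := Φ.comp (commutator WGr).subtype
  have hD : (commutator ↥Pin).map (QuotientGroup.mk' Scal) = Φ'.range := by
    rw [MonoidHom.range_comp, Subgroup.range_subtype, commutator_def, commutator_def,
      Subgroup.map_commutator, Subgroup.map_commutator,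
      Subgroup.map_top_of_surjective _ (QuotientGroup.mk'_surjective _),
      Subgroup.map_top_of_surjective Φ hΦs]
  have hΦi : Function.Injective Φ' := by
    haveI : IsSimpleGroup (Cfsg.PSp 3 F) :=
      Cfsg.Agent.Classical.Symplectic.isSimpleGroup_PSp (by norm_num) (by norm_num)
    haveI : Nontrivial (commutator WGr) := eW.toEquiv.nontrivial
    haveI : IsSimpleGroup (commutator WGr) :=
      IsSimpleGroup.isSimpleGroup_of_surjective eW.symm.toMonoidHom eW.symm.surjective
    rw [← MonoidHom.ker_eq_bot_iff]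
    refine (IsSimpleGroup.eq_bot_or_eq_top_of_normal Φ'.ker inferInstance).resolve_right fun h => ?_
    have hone : ∀ i j : Fin 7, (QuotientGroup.mk (gen i * gen j) : ↥Pin ⧸ Scal) = 1 := fun i j => by
      have h' : (⟨_, simple_mul_mem i j⟩ : commutator WGr) ∈ Φ'.ker := h ▸ Subgroup.mem_top _
      rw [MonoidHom.mem_ker] at h'
      rw [QuotientGroup.mk_mul, ← hΦ, ← hΦ, ← map_mul]
      exact h'
    rcases mem_scal.1 ((QuotientGroup.eq_one_iff _).1 (hone 0 2)) with e | e
    · have e' := congrArg (fun x : ↥Pin => ((x : M8ˣ) : M8)) e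
      have e2 : spin 2 * spin 0 = 1 := by
        have hm : gen 2 * gen 0 = 1 := by
          rw [eq_inv_of_mul_eq_one_left e, mul_inv_cancel]
        exact congrArg (fun x : ↥Pin => ((x : M8ˣ) : M8)) hm
      exact spin_ne.1 ((show spin 0 * spin 2 = 1 from e').trans e2.symm)
    · rcases mem_scal.1 ((QuotientGroup.eq_one_iff _).1 (hone 2 0)) with e2 | e2
      · have hm : gen 0 * gen 2 = 1 := by
          rw [eq_inv_of_mul_eq_one_left e2, mul_inv_cancel]
        exact mone_ne (e.symm.trans hm)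
      · exact spin_ne.1 (congrArg (fun x : ↥Pin => ((x : M8ˣ) : M8)) (e.trans e2.symm))
  let θ : commutator ↥Pin →* Φ'.range :=
    ((QuotientGroup.mk' Scal).comp (commutator ↥Pin).subtype).codRestrict _ fun x => by
      rw [← hD]
      exact ⟨x.1, x.2, rfl⟩
  have hθs : Function.Surjective θ := fun y => by
    have hy : y.1 ∈ (commutator ↥Pin).map (QuotientGroup.mk' Scal) := by rw [hD]; exact y.2
    obtain ⟨x, hx, e⟩ := hy
    exact ⟨⟨x, hx⟩, Subtype.ext e⟩
  let σ₀ : commutator ↥Pin →* Cfsg.PSp 3 F :=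
    (eW.toMonoidHom.comp (MonoidHom.ofInjective hΦi).symm.toMonoidHom).comp θ
  have hker : ∀ x : commutator ↥Pin, x ∈ σ₀.ker ↔ x.1 = 1 ∨ x.1 = mone := fun x => by
    rw [MonoidHom.mem_ker, ← mem_scal, ← QuotientGroup.eq_one_iff]
    change eW ((MonoidHom.ofInjective hΦi).symm (θ x)) = 1 ↔ _
    rw [map_eq_one_iff _ eW.injective, map_eq_one_iff _ (MulEquiv.injective _), Subtype.ext_iff]
    rfl
  -- two elements of the derived group with commutator minus one
  have hlift : ∀ a b, ∃ x : commutator ↥Pin, x.1 = gen a * gen b ∨ x.1 = mone * (gen a * gen b) := by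
    intro a b
    obtain ⟨x, hx⟩ := hθs ⟨Φ' ⟨_, simple_mul_mem a b⟩, ⟨_, rfl⟩⟩
    refine ⟨x, ?_⟩
    have e : (QuotientGroup.mk x.1 : ↥Pin ⧸ Scal) = QuotientGroup.mk (gen a * gen b) := by
      rw [QuotientGroup.mk_mul, ← hΦ, ← hΦ, ← map_mul]
      exact congrArg Subtype.val hx
    have h2 := mem_scal.1 (QuotientGroup.eq.1 e.symm)
    rcases h2 with h3 | h3
    · exact Or.inl (inv_mul_eq_one.1 h3).symm
    · refine Or.inr ?_
      rw [← (mone_comm (gen a * gen b)).eq]
      exact eq_mul_of_inv_mul_eq h3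
  obtain ⟨x, hx⟩ := hlift 0 1
  obtain ⟨y, hy⟩ := hlift 0 4
  have hxy : ⁅x.1, y.1⁆ = mone := by
    have hcong : ∀ u v u' v' : ↥Pin, (u = u' ∨ u = mone * u') → (v = v' ∨ v = mone * v') →
        ⁅u, v⁆ = ⁅u', v'⁆ := by
      intro u v u' v' hu hv
      have hc : (QuotientGroup.mk' Scal).ker ≤ Subgroup.center ↥Pin := by
        rw [QuotientGroup.ker_mk']
        exact Subgroup.zpowers_le.2 (Subgroup.mem_center_iff.2 fun g => (mone_comm g).eq)
      have hone : QuotientGroup.mk' Scal mone = 1 :=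
        (QuotientGroup.eq_one_iff _).2 (Subgroup.mem_zpowers _)
      refine Cfsg.Agent.Transfer.SplitLifts.comm_congr hc ?_ ?_
      · rcases hu with rfl | rfl
        · rfl
        · rw [map_mul, hone, one_mul]
      · rcases hv with rfl | rfl
        · rfl
        · rw [map_mul, hone, one_mul]
    rw [hcong _ _ _ _ hx hy, commutatorElement_def, mul_inv_rev, mul_inv_rev]
    have a01 := gen_anticomm (i := 0) (j := 1) (by decide +kernel)
    have a04 := gen_anticomm (i := 0) (j := 4) (by decide +kernel)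
    have a14 := gen_anticomm (i := 1) (j := 4) (by decide +kernel)
    have key : gen 0 * gen 1 * (gen 0 * gen 4) = mone * (gen 0 * gen 4 * (gen 0 * gen 1)) := by
      refine Subtype.ext (Units.ext ?_)
      change spin 0 * spin 1 * (spin 0 * spin 4) = -1 * (spin 0 * spin 4 * (spin 0 * spin 1))
      decide +kernel
    calc gen 0 * gen 1 * (gen 0 * gen 4) * ((gen 1)⁻¹ * (gen 0)⁻¹) * ((gen 4)⁻¹ * (gen 0)⁻¹)
        = gen 0 * gen 1 * (gen 0 * gen 4) * ((gen 0 * gen 4 * (gen 0 * gen 1)))⁻¹ := by group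
      _ = mone := by rw [key, mul_inv_cancel_right]
  have hmone : mone ∈ commutator ↥Pin := hxy ▸
    Subgroup.commutator_mem_commutator (Subgroup.mem_top _) (Subgroup.mem_top _)
  let m' : σ₀.ker := ⟨⟨mone, hmone⟩, (hker _).2 (Or.inr rfl)⟩
  have hxy' : ⁅x, y⁆ = (⟨mone, hmone⟩ : commutator ↥Pin) := Subtype.ext (by
    change (commutator ↥Pin).subtype ⁅x, y⁆ = mone
    rw [map_commutatorElement]; exact hxy)
  -- transport to the universe of the field
  let e := (MulEquiv.ulift : ULift.{u} (commutator ↥Pin) ≃* commutator ↥Pin)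
  let σ : ULift.{u} (commutator ↥Pin) →* Cfsg.PSp 3 F := σ₀.comp e.toMonoidHom
  have hm : e.symm ⟨mone, hmone⟩ ∈ σ.ker := by
    rw [MonoidHom.mem_ker]; exact (hker ⟨mone, hmone⟩).2 (Or.inr rfl)
  have hall : ∀ z ∈ σ.ker, z = 1 ∨ z = e.symm ⟨mone, hmone⟩ := fun z hz => by
    rcases (hker (e z)).1 hz with h | h
    · exact Or.inl (e.injective (by rw [map_one]; exact Subtype.ext h))
    · exact Or.inr (e.injective (by rw [e.apply_symm_apply]; exact Subtype.ext h))
  refine ⟨ULift.{u} (commutator ↥Pin), inferInstance, inferInstance, σ,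
    ⟨(eW.surjective.comp ((MulEquiv.surjective _).comp hθs)).comp e.surjective, ?_, ?_⟩, ?_⟩
  · intro z hz
    refine Subgroup.mem_center_iff.2 fun g => e.injective ?_
    rw [map_mul, map_mul]
    rcases hall z hz with rfl | rfl
    · rw [map_one, one_mul, mul_one]
    · rw [e.apply_symm_apply]
      exact Subtype.ext (mone_comm _).eq
  · intro z hz
    rcases hall z hz with rfl | rfl
    · exact one_mem _
    · rw [← hxy', map_commutatorElement]
      exact Subgroup.commutator_mem_commutator (Subgroup.mem_top _) (Subgroup.mem_top _)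
  · haveI : Fact (Nat.Prime 2) := ⟨Nat.prime_two⟩
    have hne : (⟨_, hm⟩ : σ.ker) ≠ 1 := fun h => mone_ne (by
      have h' := congrArg (fun t : σ.ker => ((e t.1 : commutator ↥Pin) : ↥Pin)) h
      simpa using h')
    have h2 : Nat.card σ.ker = 2 := by
      rw [Nat.card_eq_two_iff]
      refine ⟨1, ⟨_, hm⟩, hne.symm, Set.eq_univ_of_forall fun z => ?_⟩
      rcases hall z.1 z.2 with h | h
      · exact Or.inl (Subtype.ext h)
      · exact Or.inr (Subtype.ext h)
    exact ⟨mulEquivOfPrimeCardEq h2 (by simp)⟩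

end Cfsg.Agent.Sp6Mult
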